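import Mathlib
import Groth.Agent.Lib.Helper1.LocalCrit

/-!
# Flatness from flatness over all infinitesimal thickenings (ring level)
-/

set_option autoImplicit false
universe u v w

namespace Groth.Agent.Lib.Helper6.FlatThick

open TensorProduct Groth.Agent.Helper1.LocalCrit

/-- Local criterion of flatness, thickening form: if `M` is a finite module over a Noetherian local
`R`-algebra `S`, `I` an ideal of the Noetherian ring `R` with `I S ≠ S`, and `M / I^n M` is flat
over `R / I^n` for all `n > 0`, then `M` is flat over `R`. -/
theorem flat_of_flat_quotient_pow {R : Type u} {S : Type v} {M : Type w}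
    [CommRing R] [CommRing S] [IsNoetherianRing R] [IsNoetherianRing S] [IsLocalRing S]
    [Algebra R S] [AddCommGroup M] [Module R M] [Module S M] [IsScalarTower R S M]
    [Module.Finite S M] (I : Ideal R) (hI : I.map (algebraMap R S) ≠ ⊤)
    (h2 : ∀ n : ℕ, 0 < n → Module.Flat (R ⧸ I ^ n) ((R ⧸ I ^ n) ⊗[R] M)) : Module.Flat R M := by
  rw [Module.Flat.iff_rTensor_injective']
  intro J
  rw [injective_iff_map_eq_zero]
  intro x hx
  have hc : ∀ n : ℕ, 0 < n → ∀ Q : Submodule R (R ⧸ I ^ n),
      Function.Injective (Q.subtype.rTensor M) := by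
    intro n hn Q
    have := h2 n hn
    exact rTensor_subtype_injective_of_surjective (R ⧸ I ^ n) M Ideal.Quotient.mk_surjective Q
  have hmem := mem_pow_smul_top_of_rTensor_eq_zero M I hc J x hx
  have : Module.Finite R J := Module.Finite.of_fg (IsNoetherian.noetherian J)
  have := finite_tensorProduct (R := R) (S := S) M J
  have : TensorProduct.comm R J M x = 0 := by
    apply iInf_pow_smul_top_eq_bot (S := S) I hI (M ⊗[R] J)
    intro n
    have h3 : Submodule.map (TensorProduct.comm R J M).toLinearMap
        (I ^ n • (⊤ : Submodule R (J ⊗[R] M))) = I ^ n • ⊤ := by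
      rw [Submodule.map_smul'', Submodule.map_top, LinearEquiv.range]
    rw [← h3]
    exact Submodule.mem_map_of_mem (hmem n)
  exact (TensorProduct.comm R J M).injective (by rw [this, map_zero])

end Groth.Agent.Lib.Helper6.FlatThick

namespace Groth.Agent.Lib.Helper6.FlatThick

open TensorProduct

/-- Base change of flatness along a localization of the right factor. -/
theorem flat_tensor_localization {A : Type*} [CommRing A] (S : Type*) [CommRing S] [Algebra A S]
    (B : Type*) [CommRing B] [Algebra A B] (M : Submonoid B) (B' : Type*) [CommRing B']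
    [Algebra A B'] [Algebra B B'] [IsScalarTower A B B'] [IsLocalization M B']
    [Module.Flat S (S ⊗[A] B)] : Module.Flat S (S ⊗[A] B') := by
  let φ : S ⊗[A] B →ₐ[S] S ⊗[A] B' :=
    Algebra.TensorProduct.map (AlgHom.id S S) (IsScalarTower.toAlgHom A B B')
  let _ : Algebra (S ⊗[A] B) (S ⊗[A] B') := φ.toRingHom.toAlgebra
  have : IsScalarTower S (S ⊗[A] B) (S ⊗[A] B') := .of_algebraMap_eq' φ.comp_algebraMap.symm
  have hloc := IsLocalization.tensorProduct_tensorProduct_right A S M B' (by
    ext x
    change φ (1 ⊗ₜ x) = 1 ⊗ₜ (algebraMap B B' x)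
    simp [φ])
  have : Module.Flat (S ⊗[A] B) (S ⊗[A] B') :=
    IsLocalization.flat _
      (M.map (Algebra.TensorProduct.includeRight (R := A) (A := S)) : Submonoid (S ⊗[A] B))
  exact Module.Flat.trans S (S ⊗[A] B) (S ⊗[A] B')

/-- If `B / J^n B` is flat over `A / J^n` for all `n > 0` and `q` is a prime of `B` containing
`J B`, then `B_q` is flat over `A` (Noetherian hypotheses). -/
theorem flat_localization_of_flat_quotient_pow {A B : Type*} [CommRing A] [CommRing B]
    [Algebra A B] [IsNoetherianRing A] [IsNoetherianRing B] (J : Ideal A)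
    (q : Ideal B) [q.IsPrime] (hJ : J ≤ q.comap (algebraMap A B))
    (h : ∀ n : ℕ, 0 < n → Module.Flat (A ⧸ J ^ n) ((A ⧸ J ^ n) ⊗[A] B)) :
    Module.Flat A (Localization.AtPrime q) := by
  have : IsNoetherianRing (Localization.AtPrime q) :=
    IsLocalization.isNoetherianRing q.primeCompl _ inferInstance
  refine flat_of_flat_quotient_pow (R := A) (S := Localization.AtPrime q)
    (M := Localization.AtPrime q) J ?_ ?_
  · intro htop
    have h1 : J.map (algebraMap A (Localization.AtPrime q)) ≤
        IsLocalRing.maximalIdeal (Localization.AtPrime q) := by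
      rw [IsScalarTower.algebraMap_eq A B (Localization.AtPrime q), ← Ideal.map_map,
        ← IsLocalization.AtPrime.map_eq_maximalIdeal q (Localization.AtPrime q)]
      exact Ideal.map_mono (Ideal.map_le_iff_le_comap.mpr hJ)
    rw [htop] at h1
    exact (IsLocalRing.maximalIdeal.isMaximal _).ne_top (top_le_iff.mp h1)
  · intro n hn
    have := h n hn
    exact flat_tensor_localization (A ⧸ J ^ n) B q.primeCompl (Localization.AtPrime q)

/-- Ring-level form of "flat over all thickenings ⇒ flat at points over the centre". -/
theorem flat_localRingHom_of_flat_quotient_pow {A B : Type*} [CommRing A] [CommRing B]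
    [Algebra A B] [IsNoetherianRing A] [IsNoetherianRing B] (J : Ideal A)
    (p : Ideal A) [p.IsPrime] (q : Ideal B) [q.IsPrime] (hpq : p = q.comap (algebraMap A B))
    (hJ : J ≤ p)
    (h : ∀ n : ℕ, 0 < n → Module.Flat (A ⧸ J ^ n) ((A ⧸ J ^ n) ⊗[A] B)) :
    (Localization.localRingHom p q (algebraMap A B) hpq).Flat := by
  have hfl : Module.Flat A (Localization.AtPrime q) :=
    flat_localization_of_flat_quotient_pow J q (hpq ▸ hJ) h
  let _ : Algebra (Localization.AtPrime p) (Localization.AtPrime q) :=
    (Localization.localRingHom p q (algebraMap A B) hpq).toAlgebra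
  have : IsScalarTower A (Localization.AtPrime p) (Localization.AtPrime q) :=
    .of_algebraMap_eq' (by
      rw [RingHom.algebraMap_toAlgebra, IsScalarTower.algebraMap_eq A B (Localization.AtPrime q)]
      ext a
      simp [Localization.localRingHom_to_map])
  exact (Module.flat_iff_of_isLocalization (Localization.AtPrime p) p.primeCompl
    (Localization.AtPrime q)).mpr hfl

end Groth.Agent.Lib.Helper6.FlatThick
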