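import Mathlib
import Groth.Agent.Lib.Helper6.FlatThick.Ring

/-!
# Flatness from flatness over all infinitesimal thickenings (scheme level)
-/

set_option autoImplicit false
universe u

namespace Groth.Agent.Lib.Helper6.FlatThick

open AlgebraicGeometry CategoryTheory Limits TensorProduct

/-- Affine chart of the base change of `f` to a closed subscheme. -/
theorem flat_chart {X S : Scheme.{u}} (f : X ⟶ S) (K : S.IdealSheafData)
    (hK : Flat (pullback.snd f K.subschemeι)) (U : S.affineOpens) (V : X.Opens)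
    (hV : IsAffineOpen V) (hVU : V ≤ f ⁻¹ᵁ U.1) :
    letI := (f.appLE U.1 V hVU).hom.toAlgebra
    Module.Flat (Γ(S, U.1) ⧸ K.ideal U) ((Γ(S, U.1) ⧸ K.ideal U) ⊗[Γ(S, U.1)] Γ(X, V)) := by
  let _ : Algebra Γ(S, U.1) Γ(X, V) := (f.appLE U.1 V hVU).hom.toAlgebra
  have hU : IsAffineOpen U.1 := U.2
  have hoV : IsOpenImmersion hV.fromSpec := hV.isOpenImmersion_fromSpec
  have hoU : IsOpenImmersion hU.fromSpec := hU.isOpenImmersion_fromSpec
  -- the chart of the closed subscheme
  let c : Spec (CommRingCat.of (Γ(S, U.1) ⧸ K.ideal U)) ⟶ K.subscheme := K.subschemeCover.f U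
  have hc : c ≫ K.subschemeι =
      Spec.map (CommRingCat.ofHom (Ideal.Quotient.mk (K.ideal U))) ≫ hU.fromSpec := by
    exact (K.subschemeCover_map_subschemeι U).trans (K.glueDataObjι_ι U)
  have hco : IsOpenImmersion c := K.subschemeCover.map_prop U
  let φ : Γ(S, U.1) ⟶ Γ(X, V) := f.appLE U.1 V hVU
  have e₁ : Spec.map φ ≫ hU.fromSpec = hV.fromSpec ≫ f :=
    IsAffineOpen.SpecMap_appLE_fromSpec f hU hV hVU
  let m := pullback.map (Spec.map φ)
    (Spec.map (CommRingCat.ofHom (Ideal.Quotient.mk (K.ideal U)))) f K.subschemeι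
    hV.fromSpec c hU.fromSpec e₁ hc.symm
  have hm : IsOpenImmersion m := Scheme.pullback_map_isOpenImmersion _ _ _ _ _ _ _ _ _
  have hms : m ≫ pullback.snd f K.subschemeι = pullback.snd _ _ ≫ c := by
    exact pullback.lift_snd _ _ _
  have h1 : Flat (pullback.snd (Spec.map φ)
      (Spec.map (CommRingCat.ofHom (Ideal.Quotient.mk (K.ideal U)))) ≫ c) := by
    rw [← hms]
    infer_instance
  have hpc : MorphismProperty.HasOfPostcompProperty @Flat.{u} @IsOpenImmersion.{u} :=
    AlgebraicGeometry.instHasOfPostcompPropertySchemeIsOpenImmersionOfIsStableUnderBaseChange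
      @Flat.{u}
  have h2 : Flat (pullback.snd (Spec.map φ)
      (Spec.map (CommRingCat.ofHom (Ideal.Quotient.mk (K.ideal U))))) :=
    MorphismProperty.of_postcomp (W := @Flat) (W' := @IsOpenImmersion) _ c hco h1
  have h3 : Flat (Spec.map (CommRingCat.ofHom
      (algebraMap (Γ(S, U.1) ⧸ K.ideal U) ((Γ(S, U.1) ⧸ K.ideal U) ⊗[Γ(S, U.1)] Γ(X, V))))) := by
    have e := pullbackSpecIso_inv_fst' Γ(S, U.1) (Γ(S, U.1) ⧸ K.ideal U) Γ(X, V)
    have e' : (pullbackSymmetry _ _).hom ≫
        pullback.fst (Spec.map (CommRingCat.ofHom (algebraMap Γ(S, U.1) (Γ(S, U.1) ⧸ K.ideal U))))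
          (Spec.map (CommRingCat.ofHom (algebraMap Γ(S, U.1) Γ(X, V)))) =
        pullback.snd (Spec.map φ)
          (Spec.map (CommRingCat.ofHom (Ideal.Quotient.mk (K.ideal U)))) :=
      pullbackSymmetry_hom_comp_fst _ _
    rw [← e]
    have : Flat (pullback.fst
        (Spec.map (CommRingCat.ofHom (algebraMap Γ(S, U.1) (Γ(S, U.1) ⧸ K.ideal U))))
        (Spec.map (CommRingCat.ofHom (algebraMap Γ(S, U.1) Γ(X, V))))) := by
      have hri : MorphismProperty.RespectsIso @Flat.{u} :=
        MorphismProperty.IsStableUnderBaseChange.respectsIso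
      rw [← e'] at h2
      exact (MorphismProperty.cancel_left_of_respectsIso @Flat _ _).mp h2
    infer_instance
  have h4 := (HasRingHomProperty.Spec_iff (P := @Flat)).mp h3
  exact RingHom.flat_algebraMap_iff.mp h4

end Groth.Agent.Lib.Helper6.FlatThick
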