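import Mathlib
import Groth.Agent.Lib.Helper6.EtLoc.SmoothBC

/-!
# Smooth locus and base change at a point where `f` is flat
-/

set_option autoImplicit false
universe u

namespace Groth.Agent.Lib.Helper6.FlatThick

open AlgebraicGeometry CategoryTheory Limits Groth.Agent.Lib.Helper6.EtLoc

/-- Smooth locus and base change, when `f` is flat at the image point. -/
theorem mem_smoothLocus_of_flat_stalk_left {X S X' S' : Scheme.{u}} (f : X ⟶ S) (g : S' ⟶ S)
    (f' : X' ⟶ S') (g' : X' ⟶ X) (h : IsPullback g' f' f g)
    [LocallyOfFinitePresentation f] [LocallyOfFinitePresentation f']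
    (x' : X') (hfl : (f.stalkMap (g' x')).hom.Flat) (hx' : x' ∈ f'.smoothLocus) :
    g' x' ∈ f.smoothLocus := by
  have hlfp' : LocallyOfFinitePresentation (f'.fiberToSpecResidueField (f' x')) :=
    MorphismProperty.of_isPullback (P := @LocallyOfFinitePresentation)
      (IsPullback.of_hasPullback f' (S'.fromSpecResidueField (f' x'))) inferInstance
  have hlfp : LocallyOfFinitePresentation (f.fiberToSpecResidueField (g (f' x'))) :=
    MorphismProperty.of_isPullback (P := @LocallyOfFinitePresentation)
      (IsPullback.of_hasPullback f (S.fromSpecResidueField (g (f' x')))) inferInstance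
  have hz' : f'.asFiber x' ∈ (f'.fiberToSpecResidueField (f' x')).smoothLocus :=
    ((Groth.Agent.S2156.result f' x').mp hx').2
  obtain ⟨T, sq, hT⟩ := exists_fiber_square h (f' x')
  have hflr : Flat (Spec.map (g.residueFieldMap (f' x'))) :=
    Flat.SpecMap_iff.mpr (RingHom.Flat.of_isField (Field.toIsField _) _)
  have hz := mem_smoothLocus_of_flat (f.fiberToSpecResidueField (g (f' x')))
    (Spec.map (g.residueFieldMap (f' x'))) (f'.fiberToSpecResidueField (f' x')) T sq _ hz'
  have hpt : f.fiberι (g (f' x')) (T (f'.asFiber x')) = g' x' := by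
    rw [← Scheme.Hom.comp_apply, hT, Scheme.Hom.comp_apply, f'.fiberι_asFiber]
  have hfx : f (g' x') = g (f' x') := by
    rw [← Scheme.Hom.comp_apply, ← Scheme.Hom.comp_apply, h.w]
  exact (mem_smoothLocus_iff_fiber_aux f (g' x') (g (f' x')) hfx _ hpt).mpr ⟨hfl, hz⟩

end Groth.Agent.Lib.Helper6.FlatThick
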